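import Cfsg.Agent.H373.CV.Plug

/-!
# S3442, cross characteristic layer: the rows and their assembly (sub-hub helper357)
-/

set_option autoImplicit false

namespace Cfsg.Agent.H357.CV

open Cfsg Cfsg.Agent.H373.CV

universe u

/-- the rows of the cross characteristic layer -/
structure XRows : Prop where
  /-- X1 -/
  x1 : ∀ (F : Type) [Field F] [Fintype F] (n : ℕ), 4 ≤ n → Fintype.card F ≠ 2 →
    ∀ (r : ℕ), r.Prime → ¬ r ∣ Fintype.card F → Hit.{u, 0} r (Matrix.ProjectiveSpecialLinearGroup (Fin n) F)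
  /-- X16 -/
  x16 : ∀ (F : Type) [Field F] [Fintype F], Odd (Fintype.card F) →
    ∀ (r : ℕ), r.Prime → ¬ r ∣ Fintype.card F → Hit.{u, 0} r (Matrix.ProjectiveSpecialLinearGroup (Fin 3) F)
  /-- X2 -/
  x2 : ∀ (F : Type) [Field F] [Fintype F] (n q : ℕ), Fintype.card F = q ^ 2 → 4 ≤ n → Even n → (n = 4 → q % 4 = 1) →
    ∀ (r : ℕ), r.Prime → ¬ r ∣ q → Hit.{u, 0} r (PSU n F q)
  /-- X3 -/
  x3 : ∀ (F : Type) [Field F] [Fintype F] (n q : ℕ), Fintype.card F = q ^ 2 → 5 ≤ n → Odd n → (n = 5 → Odd q) →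
    ∀ (r : ℕ), r.Prime → ¬ r ∣ q → ¬ r ∣ q + 1 → Hit.{u, 0} r (PSU n F q)
  /-- X4 -/
  x4 : ∀ (F : Type) [Field F] [Fintype F] (n q : ℕ), Fintype.card F = q ^ 2 → 7 ≤ n → Odd n →
    ∀ (r : ℕ), r.Prime → r ∣ q + 1 → (r = 3 → 3 ∣ n) → Hit.{u, 0} r (PSU n F q)
  /-- X4' -/
  x4' : ∀ (F : Type) [Field F] [Fintype F] (n q : ℕ), Fintype.card F = q ^ 2 → 7 ≤ n → Odd n → 3 ∣ q + 1 → ¬ 3 ∣ n →
    Hit.{u, 0} 3 (PSU n F q)
  /-- X5 -/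
  x5 : ∀ (F : Type) [Field F] [Fintype F] (q : ℕ), Fintype.card F = q ^ 2 → Odd q →
    ∀ (r : ℕ), r.Prime → r ∣ q + 1 → Hit.{u, 0} r (PSU 5 F q)
  /-- X15 (`q = 3` is excluded) -/
  x15 : ∀ (F : Type) [Field F] [Fintype F] (q : ℕ), Fintype.card F = q ^ 2 → Odd q → q ≠ 3 →
    ∀ (r : ℕ), r.Prime → ¬ r ∣ q → (r = 2 → ¬ (q.Prime ∧ ∃ k, q + 1 = 2 ^ k)) → Hit.{u, 0} r (PSU 3 F q)
  /-- M9 -/
  m9 : ∀ (F : Type) [Field F] [Fintype F] (q k : ℕ), Fintype.card F = q ^ 2 → q.Prime → q + 1 = 2 ^ k → ¬ (q ^ 2 - q + 1).Prime →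
    Hit.{u, 0} 2 (PSU 3 F q)
  /-- X6 -/
  x6 : ∀ (F : Type) [Field F] [Fintype F] (m : ℕ), Odd (Fintype.card F) → 3 ≤ m → Odd m →
    ∀ (r : ℕ), r.Prime → ¬ r ∣ Fintype.card F → Hit.{u, 0} r (PSp m F)
  /-- X7 -/
  x7 : ∀ (F : Type) [Field F] [Fintype F] (m : ℕ), Odd (Fintype.card F) → 4 ≤ m → Even m →
    ∀ (r : ℕ), r.Prime → ¬ r ∣ Fintype.card F → Hit.{u, 0} r (PSp m F)
  /-- X8 -/
  x8 : ∀ (F : Type) [Field F] [Fintype F], Odd (Fintype.card F) → 3 < Fintype.card F →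
    ∀ (r : ℕ), r.Prime → ¬ r ∣ Fintype.card F → Hit.{u, 0} r (PSp 2 F)
  /-- X10 -/
  x10 : ∀ (F : Type) [Field F] [Fintype F] (m : ℕ), Odd (Fintype.card F) → 4 ≤ m → Even m →
    ∀ (r : ℕ), r.Prime → ¬ r ∣ Fintype.card F → Hit.{u, 0} r (POmega F (quadFormOdd m F))
  /-- X11 -/
  x11 : ∀ (F : Type) [Field F] [Fintype F] (m : ℕ), Odd (Fintype.card F) → 3 ≤ m → Odd m →
    ∀ (r : ℕ), r.Prime → ¬ r ∣ Fintype.card F → Hit.{u, 0} r (POmega F (quadFormOdd m F))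
  /-- X12 -/
  x12 : ∀ (F : Type) [Field F] [Fintype F] (m : ℕ) (a b : F), Odd (Fintype.card F) → 4 ≤ m →
    (∀ z₁ z₂ : F, z₁ ^ 2 + a * z₁ * z₂ + b * z₂ ^ 2 = 0 → z₁ = 0 ∧ z₂ = 0) →
    ∀ (r : ℕ), r.Prime → ¬ r ∣ Fintype.card F → Hit.{u, 0} r (POmega F (quadFormMinus (m - 1) F a b))
  /-- X13 -/
  x13 : ∀ (F : Type) [Field F] [Fintype F] (m : ℕ), Odd (Fintype.card F) → 5 ≤ m → Odd m →
    ∀ (r : ℕ), r.Prime → ¬ r ∣ Fintype.card F → Hit.{u, 0} r (POmega F (quadFormPlus m F))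
  /-- X14 -/
  x14 : ∀ (F : Type) [Field F] [Fintype F] (m : ℕ), Odd (Fintype.card F) → 4 ≤ m → Even m →
    ∀ (r : ℕ), r.Prime → ¬ r ∣ Fintype.card F → Hit.{u, 0} r (POmega F (quadFormPlus m F))

namespace XRows

variable (X : XRows.{u})
include X

theorem psl_cross (F : Type) [Field F] [Fintype F] (n : ℕ) (hn : 3 ≤ n) (h3 : n = 3 → Odd (Fintype.card F))
    (h2 : Fintype.card F ≠ 2) (r : ℕ) (hr : r.Prime) (hrF : ¬ r ∣ Fintype.card F) :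
    Hit.{u, 0} r (Matrix.ProjectiveSpecialLinearGroup (Fin n) F) := by
  rcases Nat.lt_or_ge n 4 with h | h
  · obtain rfl : n = 3 := by omega
    exact X.x16 F (h3 rfl) r hr hrF
  · exact X.x1 F n h h2 r hr hrF

theorem psp_cross (F : Type) [Field F] [Fintype F] (m : ℕ) (ho : Odd (Fintype.card F)) (hm : 2 ≤ m)
    (h2 : m = 2 → 3 < Fintype.card F) (r : ℕ) (hr : r.Prime) (hrF : ¬ r ∣ Fintype.card F) : Hit.{u, 0} r (PSp m F) := by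
  rcases Nat.even_or_odd m with h | h
  · by_cases h' : m = 2
    · subst h'
      exact X.x8 F ho (h2 rfl) r hr hrF
    · obtain ⟨k, hk⟩ := h
      exact X.x7 F m ho (by omega) ⟨k, hk⟩ r hr hrF
  · obtain ⟨k, hk⟩ := h
    exact X.x6 F m ho (by omega) ⟨k, hk⟩ r hr hrF

theorem psu_cross (F : Type) [Field F] [Fintype F] (n q : ℕ) (hF : Fintype.card F = q ^ 2) (hn : 3 ≤ n)
    (h3 : n = 3 → Odd q ∧ (q.Prime → (∃ k, q + 1 = 2 ^ k) → ¬ (q ^ 2 - q + 1).Prime)) (h4 : n = 4 → q % 4 = 1)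
    (h5 : n = 5 → Odd q) (r : ℕ) (hr : r.Prime) (hrq : ¬ r ∣ q) : Hit.{u, 0} r (PSU n F q) := by
  rcases Nat.even_or_odd n with h | h
  · obtain ⟨k, hk⟩ := h
    exact X.x2 F n q hF (by omega) ⟨k, hk⟩ h4 r hr hrq
  by_cases hn3 : n = 3
  · subst hn3
    obtain ⟨ho, hM⟩ := h3 rfl
    have hq3 : q ≠ 3 := by
      rintro rfl
      exact hM Nat.prime_three ⟨2, rfl⟩ (by norm_num)
    by_cases hc : r = 2 ∧ (q.Prime ∧ ∃ k, q + 1 = 2 ^ k)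
    · obtain ⟨rfl, hqp, k, hk⟩ := hc
      exact X.m9 F q k hF hqp hk (hM hqp ⟨k, hk⟩)
    · exact X.x15 F q hF ho hq3 r hr hrq (fun h2 h' => hc ⟨h2, h'⟩)
  by_cases hr1 : r ∣ q + 1
  · by_cases hn5 : n = 5
    · subst hn5
      exact X.x5 F q hF (h5 rfl) r hr hr1
    · have h7 : 7 ≤ n := by obtain ⟨k, hk⟩ := h; omega
      by_cases h33 : r = 3 ∧ ¬ 3 ∣ n
      · obtain ⟨rfl, h33⟩ := h33
        exact X.x4' F n q hF h7 h hr1 h33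
      · exact X.x4 F n q hF h7 h r hr hr1 (fun h' => by_contra fun h'' => h33 ⟨h', h''⟩)
  · exact X.x3 F n q hF (by obtain ⟨k, hk⟩ := h; omega) h h5 r hr hrq hr1

theorem odd_cross (F : Type) [Field F] [Fintype F] (m : ℕ) (ho : Odd (Fintype.card F)) (hm : 3 ≤ m)
    (r : ℕ) (hr : r.Prime) (hrF : ¬ r ∣ Fintype.card F) : Hit.{u, 0} r (POmega F (quadFormOdd m F)) := by
  rcases Nat.even_or_odd m with h | h
  · obtain ⟨k, hk⟩ := h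
    exact X.x10 F m ho (by omega) ⟨k, hk⟩ r hr hrF
  · exact X.x11 F m ho hm h r hr hrF

theorem plus_cross (F : Type) [Field F] [Fintype F] (m : ℕ) (ho : Odd (Fintype.card F)) (hm : 4 ≤ m)
    (r : ℕ) (hr : r.Prime) (hrF : ¬ r ∣ Fintype.card F) : Hit.{u, 0} r (POmega F (quadFormPlus m F)) := by
  rcases Nat.even_or_odd m with h | h
  · exact X.x14 F m ho hm h r hr hrF
  · obtain ⟨k, hk⟩ := h
    exact X.x13 F m ho (by omega) ⟨k, hk⟩ r hr hrF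

end XRows

end Cfsg.Agent.H357.CV
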