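import Cfsg.Agent.H381.CV.UOrb
import Cfsg.Agent.LieClassical.HermSiegel

/-!
# Monomial elements of `SU_n(q)` (S3442, helper357)
-/

set_option autoImplicit false
set_option linter.unusedSectionVars false

namespace Cfsg.Agent.H357.CV

open Cfsg Cfsg.Agent.LieClassical.HermBasic Cfsg.Agent.LieClassical.HermSiegel Matrix

universe v

section Mono

variable {F : Type v} [Field F] [Fintype F] {n q : ℕ}

/-- the monomial matrix `v ↦ (d i * v (σ i))` -/
def monM (σ : Equiv.Perm (Fin n)) (d : Fin n → F) : Matrix (Fin n) (Fin n) F := Matrix.diagonal d * σ.permMatrix F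

theorem monM_mulVec (σ : Equiv.Perm (Fin n)) (d : Fin n → F) (v : Fin n → F) (i : Fin n) :
    (monM σ d *ᵥ v) i = d i * v (σ i) := by
  rw [monM, ← Matrix.mulVec_mulVec, Matrix.mulVec_diagonal, Matrix.permMatrix_mulVec]
  rfl

theorem monM_det (σ : Equiv.Perm (Fin n)) (d : Fin n → F) :
    (monM σ d).det = (∏ i, d i) * ((Equiv.Perm.sign σ : ℤ) : F) := by
  rw [monM, Matrix.det_mul, Matrix.det_diagonal, Matrix.det_permutation]

theorem monM_herm (σ : Equiv.Perm (Fin n)) {d : Fin n → F} (hd : ∀ i, d i * d i ^ q = 1)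
    (u v : Fin n → F) : hermForm n F q (monM σ d *ᵥ u) (monM σ d *ᵥ v) = hermForm n F q u v := by
  rw [herm_def, herm_def, ← Equiv.sum_comp σ (fun i => u i * v i ^ q)]
  refine Finset.sum_congr rfl fun i _ => ?_
  rw [monM_mulVec, monM_mulVec, mul_pow]
  linear_combination (u (σ i) * v (σ i) ^ q) * hd i

/-- the monomial element of `SU_n(q)` -/
def monSU (σ : Equiv.Perm (Fin n)) (d : Fin n → F) (hd : ∀ i, d i * d i ^ q = 1)
    (hdet : (∏ i, d i) * ((Equiv.Perm.sign σ : ℤ) : F) = 1) : SU n F q :=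
  mkSU (monM σ d) (by rw [monM_det, hdet]) (monM_herm σ hd)

theorem act_monSU (σ : Equiv.Perm (Fin n)) (d : Fin n → F) (hd : ∀ i, d i * d i ^ q = 1)
    (hdet : (∏ i, d i) * ((Equiv.Perm.sign σ : ℤ) : F) = 1) (v : Fin n → F) (i : Fin n) :
    act (monSU σ d hd hdet) v i = d i * v (σ i) := by
  rw [act, monSU, mat_mkSU, monM_mulVec]

theorem act_pow_monSU (σ : Equiv.Perm (Fin n)) (d : Fin n → F) (hd : ∀ i, d i * d i ^ q = 1)
    (hdet : (∏ i, d i) * ((Equiv.Perm.sign σ : ℤ) : F) = 1) (k : ℕ) (v : Fin n → F) (i : Fin n) :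
    act (monSU σ d hd hdet ^ k) v i = (∏ t ∈ Finset.range k, d ((σ ^ t) i)) * v ((σ ^ k) i) := by
  induction k generalizing v i with
  | zero => simp [act_one]
  | succ k ih =>
    rw [pow_succ', act_mul, act_monSU, ih, Finset.prod_range_succ']
    simp only [pow_zero, Equiv.Perm.coe_one, id_eq]
    have : ∀ t, (σ ^ (t + 1)) i = (σ ^ t) (σ i) := fun t => by rw [pow_succ]; rfl
    simp only [this]
    ring

end Mono

/-! ### the cycle on the coordinates `2, …, N + 1` -/

section Cyc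

variable {N n : ℕ}

/-- the cycle on natural numbers -/
def cycN (N l : ℕ) : ℕ := if 2 ≤ l ∧ l < N + 2 then 2 + (l - 2 + 1) % N else l

theorem cycN_lt (hN : 1 ≤ N) (hn : N + 2 ≤ n) {l : ℕ} (hl : l < n) : cycN N l < n := by
  unfold cycN
  split_ifs with h
  · have := Nat.mod_lt (l - 2 + 1) hN
    omega
  · exact hl

theorem cycN_iter (hN : 1 ≤ N) (k l : ℕ) :
    (cycN N)^[k] l = if 2 ≤ l ∧ l < N + 2 then 2 + (l - 2 + k) % N else l := by
  induction k with
  | zero =>
    split_ifs with h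
    · rw [Nat.add_zero, Nat.mod_eq_of_lt (by omega)]
      simp only [Function.iterate_zero, id_eq]
      omega
    · rfl
  | succ k ih =>
    rw [Function.iterate_succ_apply', ih]
    split_ifs with h
    · unfold cycN
      have h1 := Nat.mod_lt (l - 2 + k) hN
      rw [if_pos (by omega), show 2 + (l - 2 + k) % N - 2 = (l - 2 + k) % N by omega, ← add_assoc, Nat.mod_add_mod]
    · unfold cycN
      rw [if_neg h]

theorem cycN_iter_self (hN : 1 ≤ N) (l : ℕ) : (cycN N)^[N] l = l := by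
  rw [cycN_iter hN]
  split_ifs with h
  · rw [Nat.add_mod_right, Nat.mod_eq_of_lt (by omega)]
    omega
  · rfl

/-- the cycle -/
def cycP (hN : 1 ≤ N) (hn : N + 2 ≤ n) : Equiv.Perm (Fin n) where
  toFun l := ⟨cycN N l, cycN_lt hN hn l.2⟩
  invFun l := ⟨(cycN N)^[N - 1] l, by
    rw [cycN_iter hN]
    have := l.2
    split_ifs with h
    · have := Nat.mod_lt (l - 2 + (N - 1)) hN
      omega
    · exact this⟩
  left_inv l := by
    apply Fin.ext
    show (cycN N)^[N - 1] (cycN N l) = l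
    rw [← Function.iterate_succ_apply, Nat.succ_eq_add_one, Nat.sub_add_cancel hN, cycN_iter_self hN]
  right_inv l := by
    apply Fin.ext
    show cycN N ((cycN N)^[N - 1] l) = l
    rw [← Function.iterate_succ_apply' (cycN N), Nat.succ_eq_add_one, Nat.sub_add_cancel hN, cycN_iter_self hN]

theorem cycP_pow (hN : 1 ≤ N) (hn : N + 2 ≤ n) (k : ℕ) (l : Fin n) : (((cycP hN hn) ^ k) l : ℕ) = (cycN N)^[k] l := by
  induction k with
  | zero => rfl
  | succ k ih =>
    rw [pow_succ', Equiv.Perm.mul_apply, Function.iterate_succ_apply', ← ih]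
    rfl

theorem cycP_pow_self (hN : 1 ≤ N) (hn : N + 2 ≤ n) : (cycP hN hn) ^ N = 1 := by
  apply Equiv.ext
  intro l
  apply Fin.ext
  rw [cycP_pow, cycN_iter_self hN]
  rfl

theorem sign_cycP (hN : 1 ≤ N) (hn : N + 2 ≤ n) (ho : Odd N) : Equiv.Perm.sign (cycP hN hn) = 1 := by
  have h1 : Equiv.Perm.sign (cycP hN hn) ^ N = 1 := by rw [← map_pow, cycP_pow_self, map_one]
  rcases Int.units_eq_one_or (Equiv.Perm.sign (cycP hN hn)) with h | h
  · exact h
  · rw [h, ho.neg_one_pow] at h1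
    exact absurd h1 (by decide)

end Cyc

end Cfsg.Agent.H357.CV
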